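import Cfsg.Agent.H78.Pw.Base
import Cfsg.Agent.H134.Bert
import Cfsg.Prelude.Def_Classical

/-!
# S2465, alternating row (helper459): `Pw (alternatingGroup (Fin n))`, `n ≥ 5`
-/

set_option autoImplicit false

open Equiv Equiv.Perm

namespace Cfsg.Agent.H459.Pw

open Cfsg.Agent.H78.Pw Cfsg.Agent.H134.Bert

theorem pr_of_two {n : ℕ} {g : alternatingGroup (Fin n)} {l N : ℕ} (h : Two (g : Perm (Fin n)) l) (hl : Odd l)
    (hN : l.Coprime N) : Pr N g := by
  obtain ⟨u, v, X, Y, hu, hv, e, a1, a2⟩ := h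
  refine ⟨⟨u, mem_alternatingGroup.2 (hu.sign (a1 ▸ hl))⟩, ⟨v, mem_alternatingGroup.2 (hv.sign (a2 ▸ hl))⟩,
    Subtype.ext e, ?_, ?_⟩
  · rwa [← Subgroup.orderOf_coe, hu.orderOf, a1]
  · rwa [← Subgroup.orderOf_coe, hv.orderOf, a2]

theorem all_of {n : ℕ} {l N : ℕ} (hl : Odd l) (hN : l.Coprime N) (h1 : (n + n / 2) / 2 ≤ l) (h2 : l ≤ n) :
    All N (alternatingGroup (Fin n)) := fun g =>
  pr_of_two (bertram' (g : Perm (Fin n)) (mem_alternatingGroup.1 g.2) hl.pos (by rwa [Fintype.card_fin])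
    (by rwa [Fintype.card_fin])) hl hN

theorem coprime_six {l : ℕ} (h : l % 6 = 1 ∨ l % 6 = 5) : Odd l ∧ l.Coprime 6 := by
  refine ⟨Nat.odd_iff.2 (by omega), ?_⟩
  have h2 : ¬ 2 ∣ l := by omega
  have h3 : ¬ 3 ∣ l := by omega
  have := Nat.Coprime.mul_right ((Nat.Prime.coprime_iff_not_dvd Nat.prime_two).2 h2).symm
    ((Nat.Prime.coprime_iff_not_dvd Nat.prime_three).2 h3).symm
  exact this

theorem all_six {n : ℕ} (hn : 5 ≤ n) : All 6 (alternatingGroup (Fin n)) := by
  have key : ∃ l, (l % 6 = 1 ∨ l % 6 = 5) ∧ (n + n / 2) / 2 ≤ l ∧ l ≤ n := by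
    rcases (by omega : n % 6 = 1 ∨ n % 6 = 5 ∨ (n % 6 = 2 ∨ n % 6 = 0) ∨ n % 6 = 3 ∨ n % 6 = 4) with h | h | h | h | h
    · exact ⟨n, by omega, by omega, by omega⟩
    · exact ⟨n, by omega, by omega, by omega⟩
    · exact ⟨n - 1, by omega, by omega, by omega⟩
    · exact ⟨n - 2, by omega, by omega, by omega⟩
    · exact ⟨n - 3, by omega, by omega, by omega⟩
  obtain ⟨l, h1, h2, h3⟩ := key
  exact all_of (coprime_six h1).1 (coprime_six h1).2 h2 h3

/-- an element of order divisible by `p` of degree at most `p + 1` is a `p`-cycle -/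
theorem cycleType_eq {n p : ℕ} (hp : p.Prime) (hp5 : 5 ≤ p) (hn : n ≤ p + 1) {g : Perm (Fin n)} (h : p ∣ orderOf g) :
    g.cycleType = {p} := by
  rw [← lcm_cycleType] at h
  have hm : ∃ m ∈ g.cycleType, p ∣ m := by
    by_contra hcon
    push Not at hcon
    have : ∀ s : Multiset ℕ, (∀ m ∈ s, ¬ p ∣ m) → ¬ p ∣ s.lcm := by
      intro s
      induction s using Multiset.induction with
      | empty =>
        intro _ h1
        rw [Multiset.lcm_zero] at h1
        exact hp.one_lt.ne' (Nat.dvd_one.1 h1)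
      | cons a s ih =>
        intro hs h1
        rw [Multiset.lcm_cons] at h1
        have h2 : p ∣ a * s.lcm := h1.trans (lcm_dvd (dvd_mul_right _ _) (dvd_mul_left _ _))
        rcases (Nat.Prime.dvd_mul hp).1 h2 with h3 | h3
        · exact hs a (Multiset.mem_cons_self _ _) h3
        · exact ih (fun m hm => hs m (Multiset.mem_cons_of_mem hm)) h3
    exact this _ hcon h
  obtain ⟨m, hm, hpm⟩ := hm
  obtain ⟨t, ht⟩ := Multiset.exists_cons_of_mem hm
  have hs : g.cycleType.sum ≤ n := by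
    rw [sum_cycleType]
    simpa using Finset.card_le_univ g.support
  have h2 : ∀ a ∈ g.cycleType, 2 ≤ a := fun a ha => two_le_of_mem_cycleType ha
  rw [ht, Multiset.sum_cons] at hs
  have hmp : m = p := by
    obtain ⟨c, rfl⟩ := hpm
    have hc : c = 1 := by
      have : 2 ≤ p * c := h2 _ hm
      rcases Nat.lt_or_ge c 2 with h3 | h3
      · interval_cases c
        · omega
        · rfl
      · exfalso
        have h4 := Nat.mul_le_mul_left p h3
        omega
    rw [hc, mul_one]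
  have ht0 : t = 0 := by
    by_contra hne
    obtain ⟨a, ha⟩ := Multiset.exists_mem_of_ne_zero hne
    have h3 : 2 ≤ a := h2 a (by rw [ht]; exact Multiset.mem_cons_of_mem ha)
    have h4 : a ≤ t.sum := Multiset.single_le_sum (fun _ _ => Nat.zero_le _) _ ha
    omega
  rw [ht, ht0, hmp]
  rfl

theorem all_small {n p l : ℕ} (hp : p.Prime) (hp5 : 5 ≤ p) (hn : n ≤ p + 1) (hl : Odd l) (hlp : l.Coprime p)
    (h1 : (p + 1) / 2 ≤ l) (h2 : l ≤ n) : All p (alternatingGroup (Fin n)) := by
  intro g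
  by_cases hg : p ∣ orderOf g
  · have hg' : p ∣ orderOf (g : Perm (Fin n)) := by rwa [Subgroup.orderOf_coe]
    have hc := cycleType_eq hp hp5 hn hg'
    have hne : (g : Perm (Fin n)) ≠ 1 := by
      intro h0
      rw [h0, orderOf_one] at hg'
      exact hp.one_lt.ne' (Nat.dvd_one.1 hg')
    obtain ⟨r, hr, hr1, ht⟩ := bertram_exact (g : Perm (Fin n)) (mem_alternatingGroup.1 g.2) hne
    rw [← sum_cycleType, hc] at hr
    simp at hr
    exact pr_of_two (ht.mono (by omega) (by rwa [Fintype.card_fin])) hl hlp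
  · exact Pr.of_coprime ((Nat.Prime.coprime_iff_not_dvd hp).2 hg).symm

theorem all_prime {n : ℕ} (hn : 5 ≤ n) {p : ℕ} (hp : p.Prime) (hp5 : 5 ≤ p) : All p (alternatingGroup (Fin n)) := by
  have hco : ∀ l, ¬ p ∣ l → l.Coprime p := fun l h => ((Nat.Prime.coprime_iff_not_dvd hp).2 h).symm
  have key : (∃ l, Odd l ∧ (n + n / 2) / 2 ≤ l ∧ l + 2 ≤ n) ∨ (n = 6 ∨ n = 8) := by
    by_cases h6 : n = 6 ∨ n = 8
    · exact Or.inr h6
    · left
      rcases Nat.even_or_odd n with h | h
      · obtain ⟨k, hk⟩ := h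
        exact ⟨n - 3, Nat.odd_iff.2 (by omega), by omega, by omega⟩
      · obtain ⟨k, hk⟩ := h
        exact ⟨n - 2, Nat.odd_iff.2 (by omega), by omega, by omega⟩
  rcases key with ⟨l, h1, h2, h3⟩ | h
  · by_cases hd : p ∣ l
    · refine all_of (l := l + 2) (by rw [Nat.odd_iff] at h1 ⊢; omega) (hco _ fun h4 => ?_) (by omega) (by omega)
      have := (Nat.dvd_add_right hd).1 h4
      have := Nat.le_of_dvd (by norm_num) this
      omega
    · exact all_of h1 (hco _ hd) h2 (by omega)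
  · rcases h with rfl | rfl
    · by_cases h5 : p = 5
      · subst h5
        exact all_small (l := 3) hp le_rfl le_rfl (by decide) (by decide) (by decide) (by decide)
      · refine all_of (l := 5) (by decide) (hco _ fun h => h5 ?_) (by decide) (by decide)
        have := Nat.le_of_dvd (by norm_num) h
        omega
    · by_cases h7 : p = 7
      · subst h7
        exact all_small (l := 5) hp (by decide) le_rfl (by decide) (by decide) (by decide) (by decide)
      · refine all_of (l := 7) (by decide) (hco _ fun h => h7 ?_) (by decide) (by decide)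
        exact ((Nat.prime_dvd_prime_iff_eq hp (by norm_num)).1 h)

/-- **alternating row of S2465** -/
theorem pw_alt {n : ℕ} (hn : 5 ≤ n) : Pw (alternatingGroup (Fin n)) :=
  ⟨all_six hn, fun _ hp hp5 => all_prime hn hp hp5⟩

theorem pw_isAlternating {G : Type*} [Group G] (h : Cfsg.IsAlternating G) : Pw G := by
  obtain ⟨n, hn, ⟨e⟩⟩ := h
  exact (pw_alt hn).congr e.symm

end Cfsg.Agent.H459.Pw
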